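import Groth.Agent.S0110
import Groth.Agent.EtZarUlift.Natural
import Groth.Prelude.Def_W4c5etcohweilstudentAS

/-!
# Étale cohomology of `G_a` and coherent cohomology, compatibly with scalars
-/

set_option autoImplicit false
set_option backward.isDefEq.respectTransparency false
set_option backward.isDefEq.respectTransparency.types false

universe u

open CategoryTheory CategoryTheory.Limits AlgebraicGeometry Opposite TopologicalSpace

noncomputable section

namespace Groth.Agent.EtAS.Coherent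

variable {X : Scheme.{u}}

/-- The pullback of global functions. -/
abbrev pullFn (U : X.Etale) : Γ(X, ⊤) →+* Γ(U.left, ⊤) := U.hom.appTop.hom

/-- Multiplication by a global function on `G_a`. -/
def mulGa (c : Γ(X, ⊤)) : EtCoh.Ga X ⟶ EtCoh.Ga X :=
  ⟨{ app := fun U => AddCommGrpCat.uliftFunctor.{u + 1}.map
        (AddCommGrpCat.ofHom (AddMonoidHom.mulLeft (pullFn U.unop c)))
     naturality := fun U V g => by
       refine AddCommGrpCat.hom_ext (DFunLike.ext _ _ fun x => ?_)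
       obtain ⟨x⟩ : ULift.{u + 1} Γ(U.unop.left, ⊤) := x
       refine ULift.ext _ _ ?_
       show pullFn V.unop c * g.unop.left.appTop.hom x = g.unop.left.appTop.hom (pullFn U.unop c * x)
       rw [map_mul]
       congr 1
       exact (ConcreteCategory.congr_hom
         ((congrArg (fun q : V.unop.left ⟶ X => q.appTop) (MorphismProperty.Over.w g.unop)).symm.trans
           (Scheme.Hom.comp_appTop _ _)) c) }⟩

theorem mulGa_app (c : Γ(X, ⊤)) (U : X.Etale) (x : Γ(U.left, ⊤)) :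
    (mulGa c).hom.app (op U) (ULift.up x : ULift.{u + 1} Γ(U.left, ⊤)) =
      (ULift.up (pullFn U c * x) : ULift.{u + 1} Γ(U.left, ⊤)) := rfl

theorem mulGa_one : mulGa (1 : Γ(X, ⊤)) = 𝟙 _ := by
  refine ObjectProperty.hom_ext _ (NatTrans.ext (funext fun U => ?_))
  refine AddCommGrpCat.hom_ext (DFunLike.ext _ _ fun x => ?_)
  obtain ⟨x⟩ : ULift.{u + 1} Γ(U.unop.left, ⊤) := x
  refine ULift.ext _ _ ?_
  show pullFn U.unop 1 * x = x
  rw [map_one, one_mul]

theorem mulGa_mul (a b : Γ(X, ⊤)) : mulGa (a * b) = mulGa b ≫ mulGa a := by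
  refine ObjectProperty.hom_ext _ (NatTrans.ext (funext fun U => ?_))
  refine AddCommGrpCat.hom_ext (DFunLike.ext _ _ fun x => ?_)
  obtain ⟨x⟩ : ULift.{u + 1} Γ(U.unop.left, ⊤) := x
  refine ULift.ext _ _ ?_
  show pullFn U.unop (a * b) * x = pullFn U.unop a * (pullFn U.unop b * x)
  rw [map_mul, mul_assoc]

theorem mulGa_add (a b : Γ(X, ⊤)) : mulGa (a + b) = mulGa a + mulGa b := by
  refine ObjectProperty.hom_ext _ (NatTrans.ext (funext fun U => ?_))
  refine AddCommGrpCat.hom_ext (DFunLike.ext _ _ fun x => ?_)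
  obtain ⟨x⟩ : ULift.{u + 1} Γ(U.unop.left, ⊤) := x
  refine ULift.ext _ _ ?_
  show pullFn U.unop (a + b) * x = pullFn U.unop a * x + pullFn U.unop b * x
  rw [map_add, add_mul]

/-- `x ↦ x ^ p` on `G_a`. -/
def frob (p : ℕ) (hp : p.Prime) (h0 : (p : Γ(X, ⊤)) = 0) : EtCoh.Ga X ⟶ EtCoh.Ga X :=
  W4c5etcohweilstudent.artinSchreierEndo X p hp h0 + 𝟙 _

theorem frob_app (p : ℕ) (hp : p.Prime) (h0 : (p : Γ(X, ⊤)) = 0) (U : X.Etale) (x : Γ(U.left, ⊤)) :
    (frob p hp h0).hom.app (op U) (ULift.up x : ULift.{u + 1} Γ(U.left, ⊤)) =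
      (ULift.up (x ^ p) : ULift.{u + 1} Γ(U.left, ⊤)) :=
  ULift.ext _ _ (sub_add_cancel (x ^ p) x)

/-- The `p`-th power is Frobenius semilinear. -/
theorem mulGa_frob (p : ℕ) (hp : p.Prime) (h0 : (p : Γ(X, ⊤)) = 0) (c : Γ(X, ⊤)) :
    mulGa c ≫ frob p hp h0 = frob p hp h0 ≫ mulGa (c ^ p) := by
  refine ObjectProperty.hom_ext _ (NatTrans.ext (funext fun U => ?_))
  refine AddCommGrpCat.hom_ext (DFunLike.ext _ _ fun x => ?_)
  obtain ⟨x⟩ : ULift.{u + 1} Γ(U.unop.left, ⊤) := x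
  show (frob p hp h0).hom.app U ((mulGa c).hom.app U (ULift.up x : ULift.{u + 1} Γ(U.unop.left, ⊤))) =
    (mulGa (c ^ p)).hom.app U ((frob p hp h0).hom.app U (ULift.up x : ULift.{u + 1} Γ(U.unop.left, ⊤)))
  rw [mulGa_app, frob_app, frob_app, mulGa_app, mul_pow, map_pow]

/-- The restriction of `G_a` to the opens is the structure sheaf. -/
noncomputable def resIso (X : Scheme.{u}) [EtZar.ZarCont X] :
    (EtZar.resZar X).obj (EtCoh.Ga X) ≅ (EtZarUlift.lift X).obj (Coh.toAb (Coh.structureModule X)) :=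
  (fullyFaithfulSheafToPresheaf _ _).preimageIso (NatIso.ofComponents
    (fun U => AddCommGrpCat.uliftFunctor.{u + 1}.mapIso
      ((forget₂ CommRingCat RingCat ⋙ forget₂ RingCat AddCommGrpCat).mapIso ((Scheme.Opens.topIso (X := X) U.unop))))
    (fun {U V} f => by
      refine AddCommGrpCat.hom_ext (DFunLike.ext _ _ fun x => ?_)
      obtain ⟨x⟩ : ULift.{u + 1} Γ((EtZar.zarToEt X).obj U.unop |>.left, ⊤) := x
      refine ULift.ext _ _ ?_
      have hnat : (X.homOfLE f.unop.le).appTop ≫ (Scheme.Opens.topIso (X := X) V.unop).hom =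
          (Scheme.Opens.topIso (X := X) U.unop).hom ≫ X.presheaf.map f := by
        simp only [Scheme.Opens.topIso_hom, Scheme.homOfLE_appTop, ← Functor.map_comp]
        congr 1
      exact ConcreteCategory.congr_hom hnat x))

variable (X) in
/-- Multiplication by scalars corresponds under `resIso`. -/
theorem resIso_mul [EtZar.ZarCont X] (c : Γ(X, ⊤)) :
    (EtZar.resZar X).map (mulGa c) ≫ (resIso X).hom =
      (resIso X).hom ≫ (EtZarUlift.lift X).map (Coh.smulAb (Coh.structureModule X) c) := by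
  refine ObjectProperty.hom_ext _ (NatTrans.ext (funext fun U => ?_))
  refine AddCommGrpCat.hom_ext (DFunLike.ext _ _ fun x => ?_)
  obtain ⟨x⟩ : ULift.{u + 1} Γ(((EtZar.zarToEt X).obj U.unop).left, ⊤) := x
  refine ULift.ext _ _ ?_
  show (Scheme.Opens.topIso (X := X) U.unop).hom.hom (pullFn ((EtZar.zarToEt X).obj U.unop) c * x) =
    (X.presheaf.map (homOfLE (le_top (a := U.unop))).op).hom c * (Scheme.Opens.topIso (X := X) U.unop).hom.hom x
  rw [map_mul]
  congr 1
  have h : (Scheme.Opens.ι (X := X) U.unop).appTop ≫ (Scheme.Opens.topIso (X := X) U.unop).hom =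
      X.presheaf.map (homOfLE (le_top (a := U.unop))).op := by
    simp only [Scheme.Opens.ι_appTop, Scheme.Opens.topIso_hom, ← Functor.map_comp]
    congr 1
  exact ConcreteCategory.congr_hom h c

/-- Zariski and étale cohomology of sheaves without cohomology on affines, naturally in the sheaf. -/
def cmp [EtZar.ZarCont X] (G : EtCoh.Ab X) (n : ℕ) :
    EtZar.H ((EtZar.resZar X).obj G) n →+ EtCoh.H X G n :=
  AddMonoidHom.mk'
    (fun x => (Abelian.Ext.mk₀ ((EtZarCmp.pullZarConstIso (S := X)).app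
        (AddCommGrpCat.of (ULift.{u + 1} ℤ))).inv).comp
      (EtaleSite.AdjExt.toExt (EtZarCmp.adj X) _ G n x) (zero_add n))
    fun x y => by simp [EtaleSite.AdjExt.toExt, Abelian.Ext.mapExactFunctor_add, Abelian.Ext.add_comp,
      Abelian.Ext.comp_add]

theorem cmp_bijective [EtZar.ZarCont X] (G : EtCoh.Ab X) (hG : EtZarCmp.AffVan G) (n : ℕ) :
    Function.Bijective (cmp G n) := by
  let e := (EtZarCmp.pullZarConstIso (S := X)).app (AddCommGrpCat.of (ULift.{u + 1} ℤ))
  have hp : Function.Bijective (fun y : Abelian.Ext _ G n => (Abelian.Ext.mk₀ e.inv).comp y (zero_add n)) := by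
    refine Function.bijective_iff_has_inverse.2
      ⟨fun y => (Abelian.Ext.mk₀ e.hom).comp y (zero_add n), fun y => ?_, fun y => ?_⟩
    · simp only [Abelian.Ext.mk₀_comp_mk₀_assoc, e.hom_inv_id, Abelian.Ext.mk₀_id_comp]
    · simp only [Abelian.Ext.mk₀_comp_mk₀_assoc, e.inv_hom_id, Abelian.Ext.mk₀_id_comp]
  exact hp.comp (EtaleSite.AdjExt.toExt_bijective (EtZarCmp.adj X) n _ G (EtZarCmp.isZero_RresZar G hG))

theorem cmp_natural [EtZar.ZarCont X] {G G' : EtCoh.Ab X} (φ : G ⟶ G') (n : ℕ)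
    (x : EtZar.H ((EtZar.resZar X).obj G) n) :
    cmp G' n (Sheaf.H.map ((EtZar.resZar X).map φ) n x) = Sheaf.H.map φ n (cmp G n x) := by
  rw [Sheaf.H.map_apply, Sheaf.H.map_apply]
  show (Abelian.Ext.mk₀ _).comp _ (zero_add n) =
    Abelian.Ext.comp ((Abelian.Ext.mk₀ _).comp _ (zero_add n)) _ (add_zero n)
  rw [EtaleSite.AdjExt.toExt_comp_mk₀, Abelian.Ext.comp_assoc_of_third_deg_zero]

/-- `H^p(X_et, G_a) ≅ H^p(X, O_X)`, compatibly with multiplication by global functions. -/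
theorem exists_equiv (X : Scheme.{u}) (p : ℕ) :
    ∃ E : EtCoh.H X (EtCoh.Ga X) p ≃+ Coh.HH X (Coh.structureModule X) p,
      ∀ (c : Γ(X, ⊤)) (x : EtCoh.H X (EtCoh.Ga X) p),
        E (Sheaf.H.map (mulGa c) p x) = Sheaf.H.map (Coh.smulAb (Coh.structureModule X) c) p (E x) := by
  haveI := S0110.zarCont X
  obtain ⟨e, he⟩ := EtZarUlift.exists_natural_equiv (X := X) p
  let a := AddEquiv.ofBijective _ (cmp_bijective (EtCoh.Ga X) (S0110.affVan_Ga X) p)
  let m := Sheaf.H.map (resIso X).hom p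
  let m' := Sheaf.H.map (resIso X).inv p
  have hmm : ∀ z, m' (m z) = z ∧ ∀ w, m (m' w) = w := fun z => ⟨by
      rw [← Sheaf.H.map_comp_apply, Iso.hom_inv_id, Sheaf.H.map_id_apply],
    fun w => by rw [← Sheaf.H.map_comp_apply, Iso.inv_hom_id, Sheaf.H.map_id_apply]⟩
  let b : EtZar.H ((EtZar.resZar X).obj (EtCoh.Ga X)) p ≃+
      Sheaf.H ((EtZarUlift.lift X).obj (Coh.toAb (Coh.structureModule X))) p :=
    AddEquiv.ofBijective m ⟨fun x y h => by rw [← (hmm x).1, ← (hmm y).1, h],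
      fun w => ⟨m' w, (hmm 0).2 w⟩⟩
  refine ⟨a.symm.trans (b.trans (e _).symm), fun c x => ?_⟩
  obtain ⟨z, rfl⟩ := a.surjective x
  have h1 : Sheaf.H.map (mulGa c) p (a z) = a (Sheaf.H.map ((EtZar.resZar X).map (mulGa c)) p z) :=
    (cmp_natural (mulGa c) p z).symm
  simp only [AddEquiv.trans_apply]
  rw [h1, AddEquiv.symm_apply_apply, AddEquiv.symm_apply_apply]
  apply (e _).injective
  rw [AddEquiv.apply_symm_apply, he, AddEquiv.apply_symm_apply]
  show Sheaf.H.map (resIso X).hom p _ = Sheaf.H.map _ p (Sheaf.H.map (resIso X).hom p z)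
  rw [← Sheaf.H.map_comp_apply, ← Sheaf.H.map_comp_apply, resIso_mul]

end Groth.Agent.EtAS.Coherent
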