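import Groth.Agent.EtAS.Semilinear
import Groth.Agent.EtAS.Coherent
import Groth.Agent.EtaleSite.ArtinSchreierKer
import Groth.Agent.ProperFin.Supp
import Groth.Agent.S0002
import Groth.Agent.CohTop.Vanishing

/-!
# Artin–Schreier on the étale cohomology of a proper scheme over a separably closed field
-/

set_option autoImplicit false
set_option backward.isDefEq.respectTransparency false
set_option backward.isDefEq.respectTransparency.types false

universe u

open CategoryTheory CategoryTheory.Limits AlgebraicGeometry Opposite TopologicalSpace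

noncomputable section

namespace Groth.Agent.EtAS.Proper

open Coherent

variable {k : Type u} [Field k] {X : Scheme.{u}} (f : X ⟶ Spec (CommRingCat.of k))

/-- `H^q(X, G_a)` as a vector space. -/
@[reducible] def module (q : ℕ) : Module k (EtCoh.H X (EtCoh.Ga X) q) where
  smul c x := Sheaf.H.map (mulGa (Coh.toGlobal f c)) q x
  one_smul x := by
    change Sheaf.H.map (mulGa (Coh.toGlobal f 1)) q x = x
    rw [map_one, mulGa_one, Sheaf.H.map_id_apply]
  mul_smul a b x := by
    change Sheaf.H.map (mulGa (Coh.toGlobal f (a * b))) q x =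
      Sheaf.H.map (mulGa (Coh.toGlobal f a)) q (Sheaf.H.map (mulGa (Coh.toGlobal f b)) q x)
    rw [map_mul, mulGa_mul, Sheaf.H.map_comp_apply]
  smul_zero a := map_zero (Sheaf.H.map (mulGa (Coh.toGlobal f a)) q)
  smul_add a x y := map_add (Sheaf.H.map (mulGa (Coh.toGlobal f a)) q) x y
  add_smul a b x := by
    change Sheaf.H.map (mulGa (Coh.toGlobal f (a + b))) q x =
      Sheaf.H.map (mulGa (Coh.toGlobal f a)) q x + Sheaf.H.map (mulGa (Coh.toGlobal f b)) q x
    rw [map_add, mulGa_add, Sheaf.H.map_add_apply]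
  zero_smul x := by
    change Sheaf.H.map (mulGa (Coh.toGlobal f 0)) q x = 0
    have h : mulGa (Coh.toGlobal f 0) = 0 := by
      have h0 := mulGa_add (X := X) (0 : Γ(X, ⊤)) 0
      rw [add_zero] at h0
      exact (congrArg mulGa (map_zero (Coh.toGlobal f))).trans (left_eq_add.1 h0)
    rw [h]
    exact congrArg (fun t => t x) (congrArg AddCommGrpCat.Hom.hom
      ((Sheaf.functorH _ q).map_zero (EtCoh.Ga X) (EtCoh.Ga X)))

theorem finite [IsProper f] (q : ℕ) :
    @Module.Finite k (EtCoh.H X (EtCoh.Ga X) q) _ _ (module f q) := by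
  letI := module f q
  letI : X.Over (Spec (CommRingCat.of k)) := ⟨f⟩
  haveI : IsProper (X ↘ Spec (CommRingCat.of k)) := ‹IsProper f›
  haveI := Groth.Agent.S0002.result k X (Coh.structureModule X)
    (ProperFin.isCoh_structureModule X) q
  obtain ⟨E, hE⟩ := exists_equiv X q
  exact Module.Finite.equiv
    ({ E with map_smul' := fun c x => hE (Coh.toGlobal f c) x } :
      EtCoh.H X (EtCoh.Ga X) q ≃ₗ[k] Coh.HH X (Coh.structureModule X) q).symm

variable [IsSepClosed k] (p : ℕ) [hp : Fact p.Prime] [CharP k p] [IsProper f] (h0 : (p : Γ(X, ⊤)) = 0)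
include f

theorem main (q : ℕ) :
    Function.Surjective (Sheaf.H.map (W4c5etcohweilstudent.artinSchreierEndo X p hp.out h0) q) ∧
      {x : EtCoh.H X (EtCoh.Ga X) q |
        Sheaf.H.map (W4c5etcohweilstudent.artinSchreierEndo X p hp.out h0) q x = 0}.Finite := by
  letI := module f q
  haveI := finite f q
  let φ : EtCoh.H X (EtCoh.Ga X) q →+ EtCoh.H X (EtCoh.Ga X) q := Sheaf.H.map (frob p hp.out h0) q
  have hφ : ∀ (c : k) x, φ (c • x) = c ^ p • φ x := fun c x => by
    change Sheaf.H.map (frob p hp.out h0) q (Sheaf.H.map (mulGa (Coh.toGlobal f c)) q x) =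
      Sheaf.H.map (mulGa (Coh.toGlobal f (c ^ p))) q (Sheaf.H.map (frob p hp.out h0) q x)
    rw [← Sheaf.H.map_comp_apply, ← Sheaf.H.map_comp_apply, mulGa_frob, map_pow]
  have hAS : ∀ x, Sheaf.H.map (W4c5etcohweilstudent.artinSchreierEndo X p hp.out h0) q x = φ x - x := fun x => by
    have : φ x = Sheaf.H.map (W4c5etcohweilstudent.artinSchreierEndo X p hp.out h0) q x + x :=
      (Sheaf.H.map_add_apply _ _ x).trans (congrArg (_ + ·) (Sheaf.H.map_id_apply x))
    rw [this, add_sub_cancel_right]
  obtain ⟨hs, hf⟩ := Semilinear.main (p := p) (Module.finrank k (EtCoh.H X (EtCoh.Ga X) q)) φ hφ rfl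
  refine ⟨fun y => ?_, ?_⟩
  · obtain ⟨x, hx⟩ := hs y
    exact ⟨x, (hAS x).trans hx⟩
  · convert hf using 1
    ext x
    rw [Set.mem_setOf_eq, Set.mem_setOf_eq, hAS, sub_eq_zero]

theorem natCast_eq_zero : (p : Γ(X, ⊤)) = 0 := by
  rw [← map_natCast (Coh.toGlobal f) p, CharP.cast_eq_zero k p, map_zero]

/-- The Artin–Schreier sequence in cohomology. -/
theorem finite_const (q : ℕ) : Finite (EtCoh.H X (EtCoh.const X (ZMod p)) q) := by
  have h0 := natCast_eq_zero f p
  have hS := EtaleSite.ArtinSchreierKer.shortExact (X := X) p h0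
  let i : EtCoh.H X (EtCoh.const X (ZMod p)) q →+ EtCoh.H X (EtCoh.Ga X) q :=
    Sheaf.H.map (EtaleSite.ArtinSchreierKer.incl p h0) q
  have hinj : Function.Injective i → Finite (EtCoh.H X (EtCoh.const X (ZMod p)) q) := fun hi => by
    have : (Set.range i).Finite := (main f p h0 q).2.subset (by
      rintro _ ⟨x, rfl⟩
      rw [Set.mem_setOf_eq, ← Sheaf.H.map_comp_apply, EtaleSite.ArtinSchreierKer.incl_comp]
      exact congrArg (fun t => t x) (congrArg AddCommGrpCat.Hom.hom
        ((Sheaf.functorH _ q).map_zero (EtCoh.const X (ZMod p)) (EtCoh.Ga X))))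
    haveI := this.to_subtype
    exact Finite.of_injective (Set.rangeFactorization i) fun a b h => hi (congrArg Subtype.val h)
  cases q with
  | zero =>
    refine hinj ?_
    haveI := hS.mono_f
    refine (injective_iff_map_eq_zero i).2 fun x hx => ?_
    have hT := EtCore.topIsTerminal X
    apply (Sheaf.H.equiv₀ _ hT).injective
    rw [map_zero]
    refine EtaleSite.ArtinSchreierKer.injective_incl p h0 (EtCoh.top X) ?_
    rw [map_zero, Sheaf.H.equiv₀_naturality hT (EtaleSite.ArtinSchreierKer.incl p h0) x]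
    exact (congrArg _ hx).trans (map_zero _)
  | succ r =>
    refine hinj ((injective_iff_map_eq_zero i).2 fun x hx => ?_)
    obtain ⟨w, hw⟩ := Abelian.Ext.covariant_sequence_exact₁ _ hS x hx rfl
    obtain ⟨v, hv⟩ := (main f p h0 r).1 w
    rw [← hw]
    show (show EtCoh.H X (EtCoh.Ga X) r from w).comp hS.extClass _ = 0
    rw [← hv, Sheaf.H.map_apply, Abelian.Ext.comp_assoc_of_second_deg_zero]
    exact (congrArg (fun z => v.comp z rfl) hS.comp_extClass).trans (Abelian.Ext.comp_zero _ _ _ _ _)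

theorem subsingleton_const (d : ℕ) (hd : topologicalKrullDim X = d) (q : ℕ) (hq : d + 1 ≤ q) :
    Subsingleton (EtCoh.H X (EtCoh.const X (ZMod p)) q) := by
  have h0 := natCast_eq_zero f p
  have hS := EtaleSite.ArtinSchreierKer.shortExact (X := X) p h0
  haveI : IsNoetherian X :=
    haveI := LocallyOfFiniteType.isLocallyNoetherian f
    haveI : CompactSpace X := QuasiCompact.compactSpace_of_compactSpace f
    { }
  haveI : Subsingleton (EtCoh.H X (EtCoh.Ga X) q) := by
    obtain ⟨E, -⟩ := exists_equiv X q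
    haveI : TopologicalSpace.NoetherianSpace X.toTopCat := AlgebraicGeometry.IsNoetherian.noetherianSpace
    haveI : Subsingleton (Coh.HH X (Coh.structureModule X) q) :=
      CohTop.Vanishing.grothendieck_vanishing (X := X.toTopCat) d hd.le _ q (by omega)
    exact E.injective.subsingleton
  obtain ⟨r, rfl⟩ : ∃ r, q = r + 1 := ⟨q - 1, by omega⟩
  change Subsingleton (Abelian.Ext ((constantSheaf X.smallEtaleTopology AddCommGrpCat.{u + 1}).obj
    (AddCommGrpCat.of (ULift.{u + 1} ℤ))) (EtaleSite.ArtinSchreierKer.sc (X := X) p h0).X₁ (r + 1))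
  refine subsingleton_of_forall_eq 0 fun x => ?_
  have hz : x.comp (Abelian.Ext.mk₀ (EtaleSite.ArtinSchreierKer.sc (X := X) p h0).f)
      (add_zero (r + 1)) = 0 := Subsingleton.elim (α := EtCoh.H X (EtCoh.Ga X) (r + 1)) _ _
  obtain ⟨w, hw⟩ := Abelian.Ext.covariant_sequence_exact₁ _ hS x hz rfl
  obtain ⟨v, hv⟩ := (main f p h0 r).1 w
  rw [← hw]
  show (show EtCoh.H X (EtCoh.Ga X) r from w).comp hS.extClass _ = 0
  rw [← hv, Sheaf.H.map_apply, Abelian.Ext.comp_assoc_of_second_deg_zero]
  exact (congrArg (fun z => v.comp z rfl) hS.comp_extClass).trans (Abelian.Ext.comp_zero _ _ _ _ _)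

end Groth.Agent.EtAS.Proper
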