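import Mathlib.FieldTheory.IsSepClosed
import Mathlib.Algebra.CharP.Frobenius
import Mathlib.LinearAlgebra.FiniteDimensional.Basic
import Mathlib.LinearAlgebra.Dimension.Constructions
import Mathlib.LinearAlgebra.LinearIndependent.Lemmas

/-!
# `φ - 1` for a Frobenius semilinear map over a separably closed field

For `φ` Frobenius semilinear on a finite dimensional space over a separably closed field, `φ - 1` is
surjective with finite kernel.  (Reduction to cyclic spaces, where one additive separable polynomial
has to be solved; `φ` need not be bijective.)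
-/

set_option autoImplicit false

universe u v

namespace Groth.Agent.EtAS.Semilinear

open Polynomial

variable {k : Type u} [Field k] [IsSepClosed k] {p : ℕ} [hp : Fact p.Prime] [CharP k p]

/-- The coordinates of a solution as polynomials in the last one. -/
noncomputable def coord (a y : ℕ → k) : ℕ → k[X]
  | 0 => C (a 0) * X ^ p - C (y 0)
  | i + 1 => coord a y i ^ p + C (a (i + 1)) * X ^ p - C (y (i + 1))

theorem derivative_coord (a y : ℕ → k) : ∀ i, derivative (coord (p := p) a y i) = 0
  | 0 => by simp [coord, derivative_pow]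
  | i + 1 => by simp [coord, derivative_pow]

theorem separable (a y : ℕ → k) (i : ℕ) : (coord (p := p) a y i - X).Separable := by
  have hd : derivative (coord (p := p) a y i - X) = -1 := by
    rw [derivative_sub, derivative_coord, derivative_X, zero_sub]
  rw [separable_def, hd]
  exact isCoprime_one_right.neg_right

theorem degree_ne_zero (a y : ℕ → k) (i : ℕ) : (coord (p := p) a y i - X).degree ≠ 0 := by
  intro h
  have hd : derivative (coord (p := p) a y i - X) = -1 := by
    rw [derivative_sub, derivative_coord, derivative_X, zero_sub]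
  rw [eq_C_of_degree_le_zero h.le, derivative_C] at hd
  exact one_ne_zero (neg_eq_zero.1 hd.symm)

/-- Surjectivity and finite kernel of `φ - 1`. -/
theorem main : ∀ (n : ℕ) {V : Type v} [AddCommGroup V] [Module k V] [FiniteDimensional k V]
    (φ : V →+ V), (∀ (c : k) (v : V), φ (c • v) = c ^ p • φ v) → Module.finrank k V = n →
      Function.Surjective (fun v => φ v - v) ∧ {v : V | φ v = v}.Finite := by
  intro n
  induction n using Nat.strong_induction_on with
  | _ n ih =>
  intro V _ _ _ φ hφ hn
  classical
  rcases subsingleton_or_nontrivial V with hV | hV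
  · exact ⟨fun w => ⟨0, Subsingleton.elim _ _⟩, Set.toFinite _⟩
  obtain ⟨v, hv⟩ := exists_ne (0 : V)
  let e : ℕ → V := fun i => (⇑φ)^[i] v
  have he : ∀ i, φ (e i) = e (i + 1) := fun i => (Function.iterate_succ_apply' φ i v).symm
  have hex : ∃ r, e r ∈ Submodule.span k (Set.range fun i : Fin r => e i) := by
    by_contra h
    push_neg at h
    have hli : ∀ r, LinearIndependent k (fun i : Fin r => e i) := fun r => by
      induction r with
      | zero => exact linearIndependent_empty_type
      | succ r ihr => exact linearIndependent_fin_succ'.2 ⟨ihr, h r⟩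
    have := (hli (n + 1)).fintype_card_le_finrank
    rw [hn, Fintype.card_fin] at this
    omega
  let r := Nat.find hex
  have hr : e r ∈ Submodule.span k (Set.range fun i : Fin r => e i) := Nat.find_spec hex
  have hli : ∀ s ≤ r, LinearIndependent k (fun i : Fin s => e i) := by
    intro s
    induction s with
    | zero => exact fun _ => linearIndependent_empty_type
    | succ s ihs => exact fun hs => linearIndependent_fin_succ'.2 ⟨ihs (Nat.le_of_succ_le hs), Nat.find_min hex hs⟩
  obtain ⟨r', hr'⟩ : ∃ r', r = r' + 1 := ⟨r - 1, by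
    have : r ≠ 0 := fun h0 => by
      rw [h0] at hr
      have h1 : e 0 = 0 := by simpa using hr
      exact hv h1
    omega⟩
  rw [hr'] at hr hli
  let W := Submodule.span k (Set.range fun i : Fin (r' + 1) => e i)
  obtain ⟨a, ha⟩ : ∃ a : ℕ → k, ∑ i : Fin (r' + 1), a i • e i = e (r' + 1) := by
    obtain ⟨c, hc⟩ := (Submodule.mem_span_range_iff_exists_fun k).1 hr
    exact ⟨fun i => if h : i < r' + 1 then c ⟨i, h⟩ else 0,
      (Finset.sum_congr rfl fun i _ => by simp [i.isLt]).trans hc⟩
  -- `φ` on coordinates
  have hsum : ∀ x : ℕ → k, φ (∑ i : Fin (r' + 1), x i • e i) =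
      ∑ i : Fin (r' + 1), ((if (i : ℕ) = 0 then 0 else x (i - 1) ^ p) + a i * x r' ^ p) • e i := by
    intro x
    simp only [map_sum, hφ, he, add_smul, Finset.sum_add_distrib, mul_smul]
    rw [Fin.sum_univ_castSucc, Fin.sum_univ_succ (fun i : Fin (r' + 1) => (if (i : ℕ) = 0 then (0 : k) else x (i - 1) ^ p) • e i)]
    simp only [Fin.val_castSucc, Fin.val_last, Fin.val_zero, if_pos, zero_smul, zero_add, Fin.val_succ,
      Nat.succ_ne_zero, if_false, Nat.add_sub_cancel]
    congr 1
    rw [← ha, Finset.smul_sum]
    exact Finset.sum_congr rfl fun i _ => smul_comm _ _ _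
  have key : ∀ y x : ℕ → k,
      ((∀ i, i ≤ r' → (if i = 0 then 0 else x (i - 1) ^ p) + a i * x r' ^ p - x i = y i) →
        ∀ i, i ≤ r' → x i = (coord (p := p) a y i).eval (x r')) := by
    intro y x h i
    induction i with
    | zero =>
      intro hi
      have h0 := h 0 hi
      simp [coord] at h0 ⊢
      linear_combination -h0
    | succ i ihi =>
      intro hi
      have h1 := h (i + 1) hi
      simp [coord] at h1 ⊢
      rw [← ihi (by omega)]
      linear_combination -h1
  have hsolve : ∀ w ∈ W, ∃ x ∈ W, φ x - x = w := by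
    intro w hw
    obtain ⟨c, hc⟩ := (Submodule.mem_span_range_iff_exists_fun k).1 hw
    let y : ℕ → k := fun i => if h : i < r' + 1 then c ⟨i, h⟩ else 0
    obtain ⟨t, ht⟩ := IsSepClosed.exists_root _ (degree_ne_zero (p := p) a y r') (separable a y r')
    let x : ℕ → k := fun i => (coord (p := p) a y i).eval t
    have hxr : x r' = t := by
      simpa [x, sub_eq_zero] using ht
    refine ⟨∑ i : Fin (r' + 1), x i • e i, Submodule.sum_mem _ fun i _ =>
      Submodule.smul_mem _ _ (Submodule.subset_span ⟨i, rfl⟩), ?_⟩
    rw [hsum, ← hc, ← Finset.sum_sub_distrib]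
    refine Finset.sum_congr rfl fun i _ => ?_
    rw [← sub_smul, hxr]
    congr 1
    obtain ⟨i, hi⟩ := i
    cases i with
    | zero => simp [x, coord, y]
    | succ j =>
      simp [x, coord, y]
      exact dif_pos (by omega)
  have hker : {w : W | φ (w : V) = w}.Finite := by
    let P := coord (p := p) a 0 r' - X
    have hP0 : P ≠ 0 := (separable a 0 r').ne_zero
    let f : k → V := fun t => ∑ i : Fin (r' + 1), (coord (p := p) a 0 i).eval t • e i
    refine Set.Finite.of_finite_image ((P.roots.toFinset.finite_toSet.image f).subset ?_)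
      Subtype.val_injective.injOn
    rintro _ ⟨⟨w, hw⟩, hfix, rfl⟩
    obtain ⟨c, hc⟩ := (Submodule.mem_span_range_iff_exists_fun k).1 hw
    let x : ℕ → k := fun i => if h : i < r' + 1 then c ⟨i, h⟩ else 0
    have hx : ∑ i : Fin (r' + 1), x i • e i = w :=
      (Finset.sum_congr rfl fun (i : Fin (r' + 1)) _ => congrArg (· • e i) (dif_pos i.isLt)).trans hc
    have heq := Fintype.linearIndependent_iff.1 (hli (r' + 1) le_rfl)
      (fun i => (if (i : ℕ) = 0 then 0 else x (i - 1) ^ p) + a i * x r' ^ p - x i) (by
        simp only [sub_smul, Finset.sum_sub_distrib]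
        rw [← hsum, hx, sub_eq_zero]
        exact hfix)
    have hcoord := key 0 x fun i hi => heq ⟨i, by omega⟩
    refine ⟨x r', ?_, ?_⟩
    · rw [Finset.mem_coe, Multiset.mem_toFinset, mem_roots hP0]
      simp only [P, IsRoot, eval_sub, eval_X]
      rw [← hcoord r' le_rfl, sub_self]
    · refine Eq.trans ?_ hx
      exact Finset.sum_congr rfl fun i _ => by rw [← hcoord i (by omega)]
  have hφW : ∀ w ∈ W, φ w ∈ W := fun w hw => by
    obtain ⟨c, hc⟩ := (Submodule.mem_span_range_iff_exists_fun k).1 hw
    rw [← hc, map_sum]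
    refine Submodule.sum_mem _ fun i _ => ?_
    rw [hφ, he]
    refine Submodule.smul_mem _ _ ?_
    rcases Nat.lt_or_ge (i + 1 : ℕ) (r' + 1) with h | h
    · exact Submodule.subset_span ⟨⟨i + 1, h⟩, rfl⟩
    · rw [show (i : ℕ) + 1 = r' + 1 by omega]; exact hr
  let ψ : (V ⧸ W) →+ (V ⧸ W) := QuotientAddGroup.map W.toAddSubgroup W.toAddSubgroup φ hφW
  have hψ : ∀ (c : k) (w : V ⧸ W), ψ (c • w) = c ^ p • ψ w := by
    intro c w
    obtain ⟨w, rfl⟩ := Submodule.Quotient.mk_surjective _ w
    show Submodule.Quotient.mk (φ (c • w)) = c ^ p • Submodule.Quotient.mk (φ w)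
    rw [hφ, Submodule.Quotient.mk_smul]
  have hlt : Module.finrank k (V ⧸ W) < n := by
    have h1 := Submodule.finrank_quotient_add_finrank W
    have h2 : Module.finrank k W = r' + 1 := by
      rw [finrank_span_eq_card (hli _ le_rfl), Fintype.card_fin]
    omega
  obtain ⟨hs, hf⟩ := ih _ hlt ψ hψ rfl
  constructor
  · intro w
    obtain ⟨q, hq⟩ := hs (Submodule.Quotient.mk w)
    obtain ⟨u', rfl⟩ := Submodule.Quotient.mk_surjective _ q
    have hmem : w - (φ u' - u') ∈ W := by
      rw [← Submodule.Quotient.eq]
      exact hq.symm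
    obtain ⟨x, -, hx⟩ := hsolve _ hmem
    refine ⟨u' + x, ?_⟩
    show φ (u' + x) - (u' + x) = w
    rw [map_add]
    linear_combination (norm := abel) hx
  · -- the fixed vectors map to fixed vectors of the quotient with finite fibres
    refine Set.Finite.of_finite_fibers (fun w => (Submodule.Quotient.mk w : V ⧸ W))
      (hf.subset ?_) fun q _ => ?_
    · rintro _ ⟨w, hw, rfl⟩
      exact congrArg Submodule.Quotient.mk hw
    · rcases ({w : V | φ w = w} ∩ (fun w => (Submodule.Quotient.mk w : V ⧸ W)) ⁻¹' {q}).eq_empty_or_nonempty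
        with h | ⟨w₀, hw₀, hq₀⟩
      · rw [h]; exact Set.finite_empty
      refine (hker.image fun z : W => w₀ + (z : V)).subset ?_
      rintro w ⟨hw, hq⟩
      refine ⟨⟨w - w₀, (Submodule.Quotient.eq W).1 (hq.trans hq₀.symm)⟩, ?_, add_sub_cancel _ _⟩
      show φ (w - w₀) = w - w₀
      rw [map_sub, show φ w = w from hw, show φ w₀ = w₀ from hw₀]

end Groth.Agent.EtAS.Semilinear
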